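import Mathlib
import Cfsg.Agent.Lib.S4997.Hyper
import Cfsg.Agent.Lib.S4994.QCore

set_option autoImplicit false

/-! S4994 piece E4a: the bound on fixed points inside the fixed space of a hyperplane. -/

namespace Cfsg.Agent.Lib.S4994

open Cfsg.Agent.Lib.S4997.Hyper

universe u

namespace FixedHyperAux

variable {Γ A : Type u} [Group Γ] [AddCommGroup A] [DistribMulAction Γ A]

/-- Restriction of the action of `g` to the fixed points of `H`. -/
def act (H : Subgroup Γ) (g : Γ) (hg : ∀ a : fixSub A H, g • (a : A) ∈ fixSub A H) :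
    AddMonoid.End (fixSub A H) where
  toFun a := ⟨g • (a : A), hg a⟩
  map_zero' := by ext; simp
  map_add' a b := by ext; simp [smul_add]

theorem act_coe (H : Subgroup Γ) (g : Γ) (hg : ∀ a : fixSub A H, g • (a : A) ∈ fixSub A H)
    (a : fixSub A H) : ((act H g hg a : fixSub A H) : A) = g • (a : A) := rfl

theorem act_pow_coe (H : Subgroup Γ) (g : Γ) (hg : ∀ a : fixSub A H, g • (a : A) ∈ fixSub A H)
    (n : ℕ) (a : fixSub A H) : (((act H g hg) ^ n) a : A) = g ^ n • (a : A) := by
  induction n with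
  | zero => simp
  | succ n ih =>
    rw [pow_succ', pow_succ', mul_smul, ← ih]
    rfl

end FixedHyperAux

open FixedHyperAux in
theorem fixed_hyper_bound {Γ A : Type u} [Group Γ] [Finite Γ] [AddCommGroup A] [Finite A]
    [DistribMulAction Γ A] {p q : ℕ} [Fact p.Prime] [Fact q.Prime] (hqp : q ≠ p)
    (hA : ∀ a : A, p • a = 0) (E H : Subgroup Γ) [Fintype E] (hEn : E.Normal)
    (hEab : ∀ a ∈ E, ∀ b ∈ E, a * b = b * a) (hEexp : ∀ a ∈ E, a ^ q = 1)
    (hH : IsHyp E H) (hCE : ∀ a : A, (∀ e ∈ E, e • a = a) → a = 0) (h : Γ)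
    (hnorm : ∀ x ∈ H, h * x * h⁻¹ ∈ H) :
    ∏ b : E, (Nat.card {a : A // a ∈ fixSub A H ∧ (h * b) • a = a}) ^ 2 ≤
      Nat.card (fixSub A H) ^ Nat.card E := by
  classical
  haveI : Fintype H := Fintype.ofFinite H
  have hqprime : q.Prime := Fact.out
  have hqpos : 0 < q := hqprime.pos
  obtain ⟨t, htE, htH⟩ : ∃ t ∈ E, t ∉ H := SetLike.exists_of_lt hH.1
  have hHE : H ≤ E := hH.1.le
  have htq : t ^ q = 1 := hEexp t htE
  have htpow : ∀ n : ℕ, t ^ n ∈ E := fun n => pow_mem htE n
  have hcomm : ∀ x ∈ H, ∀ n : ℕ, x * t ^ n = t ^ n * x :=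
    fun x hx n => hEab x (hHE hx) _ (htpow n)
  -- the subgroup `H⟨t⟩`
  let S : Subgroup Γ :=
    { carrier := {b | ∃ u ∈ H, ∃ j : ℕ, b = u * t ^ j}
      one_mem' := ⟨1, H.one_mem, 0, by simp⟩
      mul_mem' := by
        rintro _ _ ⟨u, hu, i, rfl⟩ ⟨v, hv, j, rfl⟩
        refine ⟨u * v, H.mul_mem hu hv, i + j, ?_⟩
        calc u * t ^ i * (v * t ^ j) = u * (t ^ i * v) * t ^ j := by simp only [mul_assoc]
          _ = u * (v * t ^ i) * t ^ j := by rw [hcomm v hv i]
          _ = u * v * t ^ (i + j) := by rw [pow_add]; simp only [mul_assoc]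
      inv_mem' := by
        rintro _ ⟨u, hu, j, rfl⟩
        refine ⟨u⁻¹, H.inv_mem hu, (q - 1) * j, ?_⟩
        rw [inv_eq_iff_mul_eq_one]
        have h1 : t ^ j * t ^ ((q - 1) * j) = 1 := by
          rw [← pow_add]
          have : j + (q - 1) * j = q * j := by
            obtain ⟨q', rfl⟩ : ∃ q', q = q' + 1 := ⟨q - 1, by omega⟩
            simp; ring
          rw [this, pow_mul, htq, one_pow]
        calc u * t ^ j * (u⁻¹ * t ^ ((q - 1) * j))
            = u * (t ^ j * u⁻¹) * t ^ ((q - 1) * j) := by simp only [mul_assoc]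
          _ = u * (u⁻¹ * t ^ j) * t ^ ((q - 1) * j) := by rw [hcomm u⁻¹ (H.inv_mem hu) j]
          _ = t ^ j * t ^ ((q - 1) * j) := by group
          _ = 1 := h1 }
  have hSE : S = E := by
    apply hH.2
    · refine lt_of_le_of_ne (fun x hx => ⟨x, hx, 0, by simp⟩) ?_
      intro heq
      apply htH
      rw [heq]
      exact ⟨1, H.one_mem, 1, by simp⟩
    · rintro _ ⟨u, hu, j, rfl⟩
      exact E.mul_mem (hHE hu) (htpow j)
  have hdecomp : ∀ b ∈ E, ∃ u ∈ H, ∃ j < q, b = u * t ^ j := by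
    intro b hb
    rw [← hSE] at hb
    obtain ⟨u, hu, j, rfl⟩ := hb
    refine ⟨u, hu, j % q, Nat.mod_lt _ hqpos, ?_⟩
    congr 1
    conv_lhs => rw [← Nat.div_add_mod j q, pow_add, pow_mul, htq, one_pow, one_mul]
  have hmod : ∀ j : ℕ, t ^ j = t ^ (j % q) := by
    intro j
    conv_lhs => rw [← Nat.div_add_mod j q, pow_add, pow_mul, htq, one_pow, one_mul]
  have hnotin : ∀ j, 0 < j → j < q → t ^ j ∉ H := by
    intro j hj0 hjq hmem
    have hcop : Nat.Coprime j q := (Nat.coprime_of_lt_prime hj0.ne' hjq hqprime).symm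
    obtain ⟨m, -, hm⟩ := Nat.exists_mul_mod_eq_one_of_coprime hcop hqprime.one_lt
    apply htH
    have h1 : t = (t ^ j) ^ m := by
      rw [← pow_mul, hmod (j * m), hm, pow_one]
    rw [h1]
    exact H.pow_mem hmem m
  -- the bijection `H × Fin q → E`
  let φ : H × Fin q → E :=
    fun x => ⟨(x.1 : Γ) * t ^ (x.2 : ℕ), E.mul_mem (hHE x.1.2) (htpow _)⟩
  have hφ : Function.Bijective φ := by
    constructor
    · rintro ⟨u, i⟩ ⟨v, j⟩ he
      have he' : (u : Γ) * t ^ (i : ℕ) = v * t ^ (j : ℕ) := congrArg Subtype.val he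
      have key : ∀ (u v : H) (i j : ℕ), i ≤ j → j < q → (u : Γ) * t ^ i = v * t ^ j → i = j := by
        intro u v i j hij hj he
        by_contra hne
        apply hnotin (j - i) (by omega) (by omega)
        have h1 : t ^ j = t ^ (j - i) * t ^ i := by
          rw [← pow_add]; congr 1; omega
        rw [h1, ← mul_assoc] at he
        have h3 : (u : Γ) = v * t ^ (j - i) := mul_right_cancel he
        have h4 : t ^ (j - i) = (v : Γ)⁻¹ * u := by rw [h3]; group
        rw [h4]
        exact H.mul_mem (H.inv_mem v.2) u.2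
      have hij : (i : ℕ) = j := by
        rcases le_total (i : ℕ) j with h | h
        · exact key u v i j h j.2 he'
        · exact (key v u j i h i.2 he'.symm).symm
      have hi : i = j := Fin.ext hij
      subst hi
      have : u = v := Subtype.ext (mul_right_cancel he')
      rw [this]
    · rintro ⟨b, hb⟩
      obtain ⟨u, hu, j, hj, rfl⟩ := hdecomp b hb
      exact ⟨(⟨u, hu⟩, ⟨j, hj⟩), rfl⟩
  have hcardE : Nat.card E = q * Nat.card H := by
    rw [← Nat.card_congr (Equiv.ofBijective φ hφ), Nat.card_prod]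
    simp [mul_comm]
  have hinvN : ∀ x ∈ H, h⁻¹ * x * h ∈ H := by
    intro x hx
    let f : H → H := fun x => ⟨h * x * h⁻¹, hnorm x x.2⟩
    have hf : Function.Injective f := by
      intro a b hab
      have : h * (a : Γ) * h⁻¹ = h * b * h⁻¹ := congrArg Subtype.val hab
      exact Subtype.ext (by simpa using this)
    obtain ⟨x', hx'⟩ := (Finite.injective_iff_surjective.1 hf) ⟨x, hx⟩
    have h1 : h * (x' : Γ) * h⁻¹ = x := congrArg Subtype.val hx'
    have h2 : h⁻¹ * x * h = x' := by rw [← h1]; group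
    rw [h2]; exact x'.2
  have hyW : ∀ a : fixSub A H, h • (a : A) ∈ fixSub A H := by
    intro a x hx
    have h1 : x • h • (a : A) = h • ((h⁻¹ * x * h) • (a : A)) := by
      simp only [smul_smul]; congr 1; group
    rw [h1, a.2 _ (hinvN x hx)]
  have hTW : ∀ a : fixSub A H, t • (a : A) ∈ fixSub A H := by
    intro a x hx
    have h1 : x • t • (a : A) = t • x • (a : A) := by
      simp only [smul_smul]; rw [hEab x (hHE hx) t htE]
    rw [h1, a.2 x hx]
  let y : AddMonoid.End (fixSub A H) := act H h hyW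
  let T : AddMonoid.End (fixSub A H) := act H t hTW
  have hTpow : ∀ (n : ℕ) (w : fixSub A H), (((T ^ n) w : fixSub A H) : A) = t ^ n • (w : A) :=
    fun n w => act_pow_coe H t hTW n w
  have hTq : T ^ q = 1 := by
    ext w
    rw [hTpow, htq, one_smul]
    rfl
  have hfpf : ∀ w, T w = w → w = 0 := by
    intro w hw
    have htw : t • (w : A) = w := congrArg Subtype.val hw
    have hw0 : (w : A) = 0 := by
      apply hCE
      intro e he
      obtain ⟨u, hu, j, _, rfl⟩ := hdecomp e he
      rw [mul_smul]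
      have h1 : t ^ j ∈ MulAction.stabilizer Γ (w : A) :=
        pow_mem (show t ∈ MulAction.stabilizer Γ (w : A) from htw) j
      rw [MulAction.mem_stabilizer_iff.1 h1]
      exact w.2 u hu
    exact Subtype.ext hw0
  obtain ⟨u₀, hu₀, k, _, hk⟩ := hdecomp (h * t * h⁻¹) (hEn.conj_mem t htE h)
  have hyT : y * T = T ^ k * y := by
    ext w
    show h • t • (w : A) = (((T ^ k) (y w) : fixSub A H) : A)
    rw [hTpow]
    show h • t • (w : A) = t ^ k • h • (w : A)
    have h1 : h • t • (w : A) = (h * t * h⁻¹) • h • (w : A) := by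
      simp only [smul_smul]; congr 1; group
    rw [h1, hk, mul_smul]
    have h2 := ((T ^ k) (y w)).2
    rw [hTpow] at h2
    exact h2 u₀ hu₀
  have hcard : ∀ (u : H) (j : ℕ),
      Nat.card {a : A // a ∈ fixSub A H ∧ (h * ((u : Γ) * t ^ j)) • a = a} =
        Nat.card {w : fixSub A H // (y * T ^ j) w = w} := by
    intro u j
    have hact : ∀ w : fixSub A H, (h * ((u : Γ) * t ^ j)) • (w : A) =
        (((y * T ^ j) w : fixSub A H) : A) := by
      intro w
      show _ = h • (((T ^ j) w : fixSub A H) : A)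
      rw [hTpow, mul_smul, mul_smul]
      congr 1
      have h2 := ((T ^ j) w).2
      rw [hTpow] at h2
      exact h2 u u.2
    refine Nat.card_congr ⟨fun x => ⟨⟨x.1, x.2.1⟩, Subtype.ext ?_⟩,
      fun x => ⟨x.1, x.1.2, ?_⟩, fun x => rfl, fun x => rfl⟩
    · rw [← hact]; exact x.2.2
    · rw [hact, x.2]
  have hW : ∀ w : fixSub A H, p • w = 0 := fun w => Subtype.ext (by
    rw [AddSubgroup.coe_nsmul]; exact hA w)
  have hq := qcore hqp hW y T hTq hfpf k hyT
  calc ∏ b : E, (Nat.card {a : A // a ∈ fixSub A H ∧ (h * b) • a = a}) ^ 2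
      = ∏ x : H × Fin q, (Nat.card {w : fixSub A H // (y * T ^ (x.2 : ℕ)) w = w}) ^ 2 := by
        symm
        refine Fintype.prod_bijective φ hφ _ _ (fun x => ?_)
        rw [← hcard]
    _ = (∏ j ∈ Finset.range q, (Nat.card {w : fixSub A H // (y * T ^ j) w = w}) ^ 2) ^ Nat.card H := by
        rw [Fintype.prod_prod_type]
        simp only [Finset.prod_const, Finset.card_univ]
        rw [Fin.prod_univ_eq_prod_range (fun j => (Nat.card {w : fixSub A H // (y * T ^ j) w = w}) ^ 2) q,
          Nat.card_eq_fintype_card]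
    _ ≤ (Nat.card (fixSub A H) ^ q) ^ Nat.card H := Nat.pow_le_pow_left hq _
    _ = Nat.card (fixSub A H) ^ Nat.card E := by
        rw [← pow_mul, hcardE]

end Cfsg.Agent.Lib.S4994
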