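import Mathlib
import Cfsg.Agent.Lib.S4997.Hyper

set_option autoImplicit false
set_option linter.unusedSectionVars false
set_option linter.unusedVariables false

/-! S4994 piece E3: the hyperplane system of an abelian normal subgroup of exponent `q` without
fixed points (no irreducibility, no faithfulness). -/

namespace Cfsg.Agent.Lib.S4994

open scoped Pointwise

universe u

open Cfsg.Agent.Lib.S4997.Hyper in
theorem hyper_system {Γ V : Type u} [Group Γ] [Finite Γ] [AddCommGroup V] [Finite V]
    [DistribMulAction Γ V] {q p : ℕ} [Fact q.Prime] [Fact p.Prime] (hpq : p ≠ q)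
    (hV : ∀ v : V, p • v = 0)
    (E : Subgroup Γ) (hEn : E.Normal) (hEab : ∀ a ∈ E, ∀ b ∈ E, a * b = b * a)
    (hEexp : ∀ a ∈ E, a ^ q = 1) (hCE : ∀ a : V, (∀ e ∈ E, e • a = a) → a = 0) :
    ∃ (J : Type u) (_ : Fintype J) (_ : MulAction Γ J) (π : J → V →+ V) (H : J → Subgroup Γ),
      (∀ v, ∑ j, π j v = v) ∧ (∀ j k, j ≠ k → ∀ v, π j (π k v) = 0) ∧
      (∀ (g : Γ) j v, π (g • j) (g • v) = g • π j v) ∧
      (∀ j, IsHyp E (H j)) ∧ (∀ j, (π j).range = fixSub V (H j)) ∧
      (∀ (g : Γ) j, H (g • j) = ConjAct.toConjAct g • H j) ∧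
      (∀ j k, H j = H k → j = k) := by
  classical
  have hCE' : fixSub V E = ⊥ := by
    rw [eq_bot_iff]
    intro v hv
    rw [AddSubgroup.mem_bot]
    exact hCE v hv
  haveI : Fintype (HypJ V E) := Fintype.ofFinite _
  let π : HypJ V E → V →+ V := fun j => avg V p j.1
  letI act : MulAction Γ (HypJ V E) := hypAct E hEn
  have horth : ∀ j k : HypJ V E, j ≠ k → ∀ v, π j (π k v) = 0 := fun j k hjk v =>
    avg_orth hEab hCE' p j.2.1 k.2.1 (fun h => hjk (Subtype.ext h)) v
  have hsum : ∀ v, ∑ j, π j v = v := by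
    let A : AddSubgroup V := AddMonoidHom.eqLocus (∑ j, π j) (AddMonoidHom.id V)
    have hA : ∀ v, v ∈ A ↔ ∑ j, π j v = v := by
      intro v
      show (∑ j, π j) v = v ↔ _
      rw [AddMonoidHom.finset_sum_apply]
    have hgen := gen_of_lines (p := q) E hEab hEexp A ?_ ?_ ?_ ⊥ bot_le
    · intro v
      rw [← hA]
      refine hgen ?_
      intro h hh
      rw [Subgroup.mem_bot] at hh
      rw [hh, one_smul]
    · intro v hv
      have hc : q.Coprime p := (Nat.coprime_primes Fact.out Fact.out).2 hpq.symm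
      have := mul_cof_smul hV hc v
      rw [mul_comm, mul_smul] at this
      rw [← this]
      exact nsmul_mem hv _
    · intro H hH v hv
      by_cases hv0 : v = 0
      · rw [hv0]; exact zero_mem _
      rw [hA]
      let j0 : HypJ V E := ⟨H, hH, v, hv, hv0⟩
      have hj0 : π j0 v = v := avg_of_mem_fix hV (coprime_of_le hpq hEexp hH.1.le) hv
      rw [Finset.sum_eq_single j0]
      · exact hj0
      · intro j _ hj
        rw [← hj0]
        exact horth j j0 hj v
      · intro h
        exact absurd (Finset.mem_univ _) h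
    · rw [hCE']
      exact bot_le
  refine ⟨HypJ V E, inferInstance, act, π, fun j => j.1, hsum, horth, ?_, ?_, ?_, ?_, ?_⟩
  · intro g j v
    exact avg_conj p g j.1 v
  · intro j
    exact j.2.1
  · intro j
    apply le_antisymm
    · rintro _ ⟨v, rfl⟩
      exact avg_mem_fix p j.1 v
    · intro v hv
      exact ⟨v, avg_of_mem_fix hV (coprime_of_le hpq hEexp j.2.1.1.le) hv⟩
  · intro g j
    rfl
  · intro j k h
    exact Subtype.ext h

end Cfsg.Agent.Lib.S4994
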