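import Mathlib
import Cfsg.Prelude.Def_Blocks
import Cfsg.Agent.Lib.S4997.Hyper
import Cfsg.Agent.Lib.S4994.Defs
import Cfsg.Agent.Lib.S4994.PermBound
import Cfsg.Agent.Lib.S4994.HyperSys
import Cfsg.Agent.Lib.S4994.FixedHyper

set_option autoImplicit false

namespace Cfsg.Agent.Lib.S4994

open Cfsg
open scoped Pointwise

universe u

open Cfsg.Agent.Lib.S4997.Hyper in
theorem lemmaE_core {Γ A : Type u} [Group Γ] [Finite Γ] [AddCommGroup A] [Finite A]
    [DistribMulAction Γ A] {p q : ℕ} [Fact p.Prime] [Fact q.Prime] (hqp : q ≠ p)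
    (hA : ∀ a : A, p • a = 0) (E : Subgroup Γ) [Fintype E] (hEn : E.Normal)
    (hEab : ∀ a ∈ E, ∀ b ∈ E, a * b = b * a) (hEexp : ∀ a ∈ E, a ^ q = 1)
    (hCE : ∀ a : A, (∀ e ∈ E, e • a = a) → a = 0) (h : Γ) :
    ∏ b : E, (Nat.card {a : A // (h * b) • a = a}) ^ 2 ≤ Nat.card A ^ Nat.card E := by
  classical
  obtain ⟨J, _, _, π, H, hsum, horth, hequi, hhyp, hrange, hconj, hinj⟩ :=
    hyper_system (q := q) (hqp.symm) hA E hEn hEab hEexp hCE
  -- `E` fixes every `j`
  have hbfix : ∀ (b : E) (j : J), (b : Γ) • j = j := by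
    intro b j
    apply hinj
    rw [hconj]
    ext x
    rw [Subgroup.mem_pointwise_smul_iff_inv_smul_mem]
    have hHE : H j ≤ E := (hhyp j).1.le
    have hinv : ((ConjAct.toConjAct (b : Γ))⁻¹ • x) = (b : Γ)⁻¹ * x * (b : Γ) := by
      rw [ConjAct.smul_def]
      simp
    rw [hinv]
    constructor
    · intro hx
      have hxE : (b : Γ)⁻¹ * x * (b : Γ) ∈ E := hHE hx
      have hxE' : x ∈ E := by
        have := hEn.conj_mem _ hxE (b : Γ)
        simpa [mul_assoc] using this
      have : x = (b : Γ)⁻¹ * x * (b : Γ) := by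
        have h1 := hEab x hxE' (b : Γ) b.2
        rw [mul_assoc, h1, ← mul_assoc, inv_mul_cancel, one_mul]
      rw [this]
      exact hx
    · intro hx
      have hxE' : x ∈ E := hHE hx
      have : (b : Γ)⁻¹ * x * (b : Γ) = x := by
        have h1 := hEab x hxE' (b : Γ) b.2
        rw [mul_assoc, h1, ← mul_assoc, inv_mul_cancel, one_mul]
      rw [this]
      exact hx
  -- pointwise bound
  let σ : Equiv.Perm J := MulAction.toPerm h
  have hσ : ∀ j, σ j = h • j := fun _ => rfl
  let X : E → A ≃+ A := fun b => DistribMulAction.toAddEquiv A (h * (b : Γ))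
  have hX : ∀ (b : E) (v : A), X b v = (h * (b : Γ)) • v := fun _ _ => rfl
  have hXπ : ∀ (b : E) (j : J) (v : A), π (σ j) (X b v) = X b (π j v) := by
    intro b j v
    have := hequi (h * (b : Γ)) j v
    rw [mul_smul h (b : Γ) j, hbfix b j] at this
    exact this
  have hperm := fun b : E => perm_bound π hsum horth σ (X b) (hXπ b)
  have hstep1 : ∏ b : E, (Nat.card {a : A // (h * (b : Γ)) • a = a}) ^ 2 ≤
      ∏ b : E, ∏ j : J, (if σ j = j then (Nat.card {v : A // v ∈ (π j).range ∧ X b v = v}) ^ 2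
        else Nat.card (π j).range) := by
    refine Finset.prod_le_prod' fun b _ => ?_
    exact hperm b
  rw [Finset.prod_comm] at hstep1
  refine hstep1.trans ?_
  have hstep2 : ∀ j : J, ∏ b : E, (if σ j = j then (Nat.card {v : A // v ∈ (π j).range ∧ X b v = v}) ^ 2
        else Nat.card (π j).range) ≤ Nat.card (π j).range ^ Nat.card E := by
    intro j
    by_cases hj : σ j = j
    · simp only [if_pos hj]
      have hnorm : ∀ x ∈ H j, h * x * h⁻¹ ∈ H j := by
        intro x hx
        have h1 : H (h • j) = ConjAct.toConjAct h • H j := hconj h j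
        rw [← hσ, hj] at h1
        rw [h1]
        rw [Subgroup.mem_pointwise_smul_iff_inv_smul_mem]
        rw [ConjAct.smul_def]
        simpa [mul_assoc] using hx
      have := fixed_hyper_bound (p := p) (q := q) hqp hA E (H j) hEn hEab hEexp (hhyp j) hCE h hnorm
      simp only [hrange j]
      exact this
    · simp only [if_neg hj, Finset.prod_const, Finset.card_univ, Nat.card_eq_fintype_card]
      exact le_rfl
  refine (Finset.prod_le_prod' fun j _ => hstep2 j).trans ?_
  rw [Finset.prod_pow, ← card_eq_prod_range π hsum horth]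

end Cfsg.Agent.Lib.S4994
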