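import Mathlib
import Cfsg.Agent.Lib.S4994.LemmaECore

set_option autoImplicit false

namespace Cfsg.Agent.Lib.S4994

universe u

variable {G : Type u} [Group G]

/-- Pass to the image of `G` in `Equiv.Perm A`. -/
theorem lemma_E [Finite G] {A : Type u} [AddCommGroup A] [Finite A] [DistribMulAction G A]
    {p q : ℕ} [Fact p.Prime] [Fact q.Prime] (hqp : q ≠ p) (hp : ∀ a : A, p • a = 0)
    (N : Subgroup G) [N.Normal] [Fintype N]
    (hcomm : ∀ x ∈ N, ∀ y ∈ N, ∀ a : A, (x * y) • a = (y * x) • a)
    (hexp : ∀ x ∈ N, ∀ a : A, x ^ q • a = a)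
    (hfree : ∀ a : A, (∀ x ∈ N, x • a = a) → a = 0) (h : G) :
    ∏ b : N, (Nat.card {a : A // (h * b) • a = a}) ^ 2 ≤ Nat.card A ^ Nat.card N := by
  classical
  let φ : G →* Equiv.Perm A := MulAction.toPermHom G A
  let π : G →* φ.range := φ.rangeRestrict
  have hπ : Function.Surjective π := φ.rangeRestrict_surjective
  have hrep : ∀ γ : φ.range, ∃ g : G, π g = γ := hπ
  letI inst : DistribMulAction φ.range A :=
    { smul := fun γ a => γ.1 a
      one_smul := fun _ => rfl
      mul_smul := fun _ _ _ => rfl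
      smul_zero := fun γ => by
        obtain ⟨g, rfl⟩ := hrep γ
        exact smul_zero g
      smul_add := fun γ a b => by
        obtain ⟨g, rfl⟩ := hrep γ
        exact smul_add g a b }
  have hsmul : ∀ (g : G) (a : A), (π g) • a = g • a := fun _ _ => rfl
  let E : Subgroup φ.range := N.map π
  have hEn : E.Normal := Subgroup.Normal.map inferInstance π hπ
  letI : Fintype E := Fintype.ofFinite E
  have hEab : ∀ a ∈ E, ∀ b ∈ E, a * b = b * a := by
    rintro _ ⟨x, hx, rfl⟩ _ ⟨y, hy, rfl⟩
    apply Subtype.ext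
    apply Equiv.ext
    intro c
    have h1 : (π (x * y)) • c = (π (y * x)) • c := by
      rw [hsmul, hsmul]; exact hcomm x hx y hy c
    rw [map_mul, map_mul] at h1
    exact h1
  have hEexp : ∀ a ∈ E, a ^ q = 1 := by
    rintro _ ⟨x, hx, rfl⟩
    apply Subtype.ext
    apply Equiv.ext
    intro c
    have h1 : (π (x ^ q)) • c = c := by
      rw [hsmul]; exact hexp x hx c
    rw [map_pow] at h1
    exact h1
  have hCE : ∀ a : A, (∀ e ∈ E, e • a = a) → a = 0 := by
    intro a ha
    apply hfree
    intro x hx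
    rw [← hsmul]
    exact ha _ ⟨x, hx, rfl⟩
  have hcore := lemmaE_core (Γ := φ.range) (A := A) hqp hp E hEn hEab hEexp hCE (π h)
  -- the surjection `N → E`
  let ψ : N →* E := π.subgroupMap N
  have hψ : Function.Surjective ψ := π.subgroupMap_surjective N
  let F : E → ℕ := fun e => (Nat.card {a : A // (π h * (e : φ.range)) • a = a}) ^ 2
  have hF : ∀ b : N, (Nat.card {a : A // (h * b) • a = a}) ^ 2 = F (ψ b) := by
    intro b
    have h1 : ∀ a : A, (π h * ((ψ b : E) : φ.range)) • a = (h * b) • a := by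
      intro a
      have h2 : π h * ((ψ b : E) : φ.range) = π (h * b) := (map_mul π h b).symm
      rw [h2, hsmul]
    simp only [F, h1]
  -- fibres have constant size
  let m : ℕ := (Finset.univ.filter (fun b : N => ψ b = 1)).card
  have hfib : ∀ e : E, (Finset.univ.filter (fun b : N => ψ b = e)).card = m := by
    intro e
    exact MonoidHom.card_fiber_eq_of_mem_range ψ (hψ e) (hψ 1)
  have himg : (Finset.univ : Finset N).image ψ = Finset.univ :=
    Finset.image_univ_of_surjective hψ
  have hprod : ∏ b : N, F (ψ b) = ∏ e : E, F e ^ m := by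
    rw [Finset.prod_comp F ψ, himg]
    exact Finset.prod_congr rfl fun e _ => by rw [hfib e]
  have hcardN : Nat.card N = Nat.card E * m := by
    have h1 : Fintype.card N = ∑ e : E, (Finset.univ.filter (fun b : N => ψ b = e)).card := by
      rw [← Finset.card_univ (α := N)]
      exact Finset.card_eq_sum_card_fiberwise (fun _ _ => Finset.mem_univ _)
    rw [Nat.card_eq_fintype_card, Nat.card_eq_fintype_card, h1]
    simp [hfib]
  calc ∏ b : N, (Nat.card {a : A // (h * b) • a = a}) ^ 2
      = ∏ b : N, F (ψ b) := Finset.prod_congr rfl fun b _ => hF b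
    _ = ∏ e : E, F e ^ m := hprod
    _ = (∏ e : E, F e) ^ m := Finset.prod_pow _ _ _
    _ ≤ (Nat.card A ^ Nat.card E) ^ m := Nat.pow_le_pow_left hcore m
    _ = Nat.card A ^ Nat.card N := by rw [hcardN, pow_mul]

end Cfsg.Agent.Lib.S4994
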