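import Mathlib
import Cfsg.Prelude.Def_Blocks
import Cfsg.Agent.Lib.S4993.Defs
import Cfsg.Agent.Lib.Char.BlichfeldtD
import Cfsg.Agent.Lib.S4994.Defs
import Cfsg.Agent.Lib.S4994.Chain
import Cfsg.Agent.Lib.S4994.ChiefFactor
import Cfsg.Agent.Lib.S4994.CharPart
import Cfsg.Agent.Lib.S4994.Counting
import Cfsg.Agent.Lib.S4994.LemmaE
import Cfsg.Agent.Lib.S4994.GroupLemmaCore
import Cfsg.Agent.Lib.S4994.SectionsCore

set_option autoImplicit false
set_option linter.unusedSectionVars false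
set_option linter.unusedVariables false

/-! S4994: assembly of the pieces (`tools/s4994/PLAN.md`). -/

namespace Cfsg.Agent.Lib.S4994

open Cfsg

universe u

section
variable {G : Type u} [Group G]

theorem group_lemma_sections_br [Finite G] (hsolv : Group.IsSolvable G) (p : ℕ) [Fact p.Prime]
    {ι : Type} [Fintype ι] (L M : ι → Subgroup G) [∀ i, (L i).Normal] [∀ i, (M i).Normal]
    (hLM : ∀ i, L i < M i)
    (hchief : ∀ i, ∀ K : Subgroup G, K.Normal → L i ≤ K → K ≤ M i → K = L i ∨ K = M i)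
    (hab : ∀ i, ∀ x ∈ M i, ∀ y ∈ M i, x * y * x⁻¹ * y⁻¹ ∈ L i)
    (hexp : ∀ i, ∀ x ∈ M i, x ^ p ∈ L i)
    (hnc : ∀ i, ∃ g : G, ∃ x ∈ M i, g * x * g⁻¹ * x⁻¹ ∉ L i) :
    ∃ g : G, (∏ i, (L i).relIndex (relCent (L i) (M i) g)) ^ 2 ≤ ∏ i, (L i).relIndex (M i) := by
  refine group_lemma_sections_of p ?_ L M hLM hchief hab hexp hnc
  intro A _ _ _ hp hirr hnt
  exact group_lemma_finset_core p A hp
    (fun L M _ _ h1 h2 => chief_factor hsolv L M h1 h2)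
    (fun i q _ hq N _ _ h1 h2 h3 h => lemma_E hq (hp i) N h1 h2 h3 h) hirr hnt Finset.univ

end

/-- The core result (factor one): a primitive irreducible character of a finite solvable group
satisfies `v_p (χ 1) ≤ v_p |G : C_G(g)|` for some `g`. -/
theorem core {G : Type*} [Group G] [Fintype G] (hsolv : Group.IsSolvable G) (χ : Cfsg.IrrCharacter G)
    (hprim : ¬ ∃ (H : Subgroup G), H ≠ ⊤ ∧ ∃ θ : ↥H → ℂ, Cfsg.IsCharacter ↥H θ ∧
      Cfsg.indFun H θ = (χ : G → ℂ)) (p : ℕ) [Fact p.Prime] :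
    ∃ g : G, (Cfsg.charDegree (χ : G → ℂ)).factorization p ≤
      ((Subgroup.centralizer ({g} : Set G)).index).factorization p := by
  classical
  have hpp : p.Prime := Fact.out
  obtain ⟨l, N, h0, hl, hnorm, hlt, hch⟩ := exists_chief_chain (G := G)
  haveI : ∀ i, (N i).Normal := hnorm
  have hmono : ∀ i < l, N i ≤ N (i + 1) := fun i hi => (hlt i hi).le
  let u : ℕ → ℕ := fun i => (N i).relIndex (N (i + 1))
  let 𝒜 : Finset ℕ := (Finset.range l).filter (fun i => (∃ k, u i = p ^ k) ∧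
    ∃ g : G, ∃ x ∈ N (i + 1), g * x * g⁻¹ * x⁻¹ ∉ N i)
  have h𝒜 : 𝒜 ⊆ Finset.range l := Finset.filter_subset _ _
  have hlt𝒜 : ∀ i ∈ 𝒜, i < l := fun i hi => Finset.mem_range.1 (h𝒜 hi)
  have hcf : ∀ i < l, ∃ r k : ℕ, r.Prime ∧ 0 < k ∧ u i = r ^ k ∧
      (∀ x ∈ N (i + 1), ∀ y ∈ N (i + 1), x * y * x⁻¹ * y⁻¹ ∈ N i) ∧
      (∀ x ∈ N (i + 1), x ^ r ∈ N i) := fun i hi =>
    chief_factor hsolv (N i) (N (i + 1)) (hlt i hi) (fun K hK h1 h2 => hch i hi K hK h1 h2)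
  -- the character part
  have hA : p ^ (2 * (Cfsg.charDegree (χ : G → ℂ)).factorization p) ≤ ∏ i ∈ 𝒜, u i := by
    refine char_part χ.2 hprim (n := Cfsg.charDegree (χ : G → ℂ)) ?_ p N l h0 hl hmono 𝒜 h𝒜 ?_
    · exact (Cfsg.Agent.Lib.Char.BlichfeldtD.degree_cast _ χ.2).symm
    · intro i hi hi𝒜
      obtain ⟨r, k, hr, hk, hu, hab, hexp⟩ := hcf i hi
      by_cases hrp : r = p
      · subst hrp
        right
        refine chief_central (N i) (N (i + 1)) (hlt i hi)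
          (fun K hK h1 h2 => hch i hi K hK h1 h2) hr hexp ?_
        intro g x hx
        by_contra hne
        exact hi𝒜 (Finset.mem_filter.2 ⟨Finset.mem_range.2 hi, ⟨k, hu⟩, g, x, hx, hne⟩)
      · left
        show Nat.Coprime p (u i)
        rw [hu]
        exact Nat.Coprime.pow_right _ ((Nat.coprime_primes hpp hr).2 (Ne.symm hrp))
  -- the group lemma
  have hrp𝒜 : ∀ i ∈ 𝒜, ∀ x ∈ N (i + 1), x ^ p ∈ N i := by
    intro i hi x hx
    obtain ⟨r, k, hr, hk, hu, hab, hexp⟩ := hcf i (hlt𝒜 i hi)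
    obtain ⟨k', hk'⟩ := (Finset.mem_filter.1 hi).2.1
    have : r = p := by
      have h1 : r ∣ p ^ k' := by
        rw [← hk', hu]
        exact dvd_pow_self r hk.ne'
      exact (Nat.prime_dvd_prime_iff_eq hr hpp).1 (hr.dvd_of_dvd_pow h1)
    subst this
    exact hexp x hx
  obtain ⟨g, hg⟩ := group_lemma_sections_br hsolv p (ι := {i // i ∈ 𝒜}) (fun i => N i.1)
    (fun i => N (i.1 + 1)) (fun i => hlt i.1 (hlt𝒜 i.1 i.2))
    (fun i K hK h1 h2 => hch i.1 (hlt𝒜 i.1 i.2) K hK h1 h2)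
    (fun i => (hcf i.1 (hlt𝒜 i.1 i.2)).elim fun r hr => hr.elim fun k hk => hk.2.2.2.1)
    (fun i => hrp𝒜 i.1 i.2)
    (fun i => (Finset.mem_filter.1 i.2).2.2)
  have hg' : (∏ i ∈ 𝒜, (N i).relIndex (relCent (N i) (N (i + 1)) g)) ^ 2 ≤ ∏ i ∈ 𝒜, u i := by
    have e1 : ∏ i : {i // i ∈ 𝒜}, (N i.1).relIndex (relCent (N i.1) (N (i.1 + 1)) g) =
        ∏ i ∈ 𝒜, (N i).relIndex (relCent (N i) (N (i + 1)) g) :=
      Finset.prod_coe_sort 𝒜 (fun i => (N i).relIndex (relCent (N i) (N (i + 1)) g))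
    have e2 : ∏ i : {i // i ∈ 𝒜}, (N i.1).relIndex (N (i.1 + 1)) = ∏ i ∈ 𝒜, u i :=
      Finset.prod_coe_sort 𝒜 u
    rw [← e1, ← e2]
    exact hg
  refine ⟨g, ?_⟩
  have hB := counting p N l h0 hl hmono g 𝒜 h𝒜 (fun i hi => (Finset.mem_filter.1 hi).2.1)
  set a := (Cfsg.charDegree (χ : G → ℂ)).factorization p with ha
  set b := ((Subgroup.centralizer ({g} : Set G)).index).factorization p with hb
  set U := ∏ i ∈ 𝒜, u i with hU
  set C := ∏ i ∈ 𝒜, (N i).relIndex (relCent (N i) (N (i + 1)) g) with hC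
  have hB' : U ≤ p ^ b * C := hB
  have hUpos : 0 < U := lt_of_lt_of_le (pow_pos hpp.pos _) hA
  have h1 : U ≤ p ^ (2 * b) := by
    have h2 : U * U ≤ p ^ (2 * b) * U := by
      calc U * U ≤ (p ^ b * C) * (p ^ b * C) := Nat.mul_le_mul hB' hB'
        _ = p ^ (2 * b) * C ^ 2 := by ring
        _ ≤ p ^ (2 * b) * U := Nat.mul_le_mul_left _ hg'
    exact Nat.le_of_mul_le_mul_right h2 hUpos
  have h3 : p ^ (2 * a) ≤ p ^ (2 * b) := hA.trans h1
  have h4 : 2 * a ≤ 2 * b := (Nat.pow_le_pow_iff_right hpp.one_lt).1 h3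
  omega


end Cfsg.Agent.Lib.S4994
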