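import Cfsg.Agent.Lib.S4994.GroupLemmaCore
import Cfsg.Agent.Lib.S4994.ChiefFactor
import Cfsg.Agent.Lib.S4994.LemmaE

/-! Piece C of S4994. -/

set_option autoImplicit false

namespace Cfsg.Agent.Lib.S4994

universe u

variable {G : Type u} [Group G]

/-- The group lemma for a family of modules. -/
theorem group_lemma_modules [Finite G] (hsolv : Group.IsSolvable G) (p : ℕ) [Fact p.Prime]
    {ι : Type} [Fintype ι] (A : ι → Type u) [∀ i, AddCommGroup (A i)] [∀ i, Finite (A i)]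
    [∀ i, DistribMulAction G (A i)] (hp : ∀ i, ∀ a : A i, p • a = 0)
    (hirr : ∀ i, ∀ S : AddSubgroup (A i), (∀ g : G, ∀ a ∈ S, g • a ∈ S) → S = ⊥ ∨ S = ⊤)
    (hnt : ∀ i, ∃ g : G, ∃ a : A i, g • a ≠ a) :
    ∃ g : G, (∏ i, Nat.card {a : A i // g • a = a}) ^ 2 ≤ ∏ i, Nat.card (A i) :=
  group_lemma_finset_core p A hp
    (fun L M _ _ h1 h2 => chief_factor hsolv L M h1 h2)
    (fun i _ _ hq N _ _ hc he hf h => lemma_E hq (hp i) N hc he hf h)
    hirr hnt Finset.univ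

end Cfsg.Agent.Lib.S4994
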