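import Mathlib
import Cfsg.Agent.Lib.S4994.GroupLemma
import Cfsg.Agent.Lib.S4994.SectionsCore

set_option autoImplicit false

/-! S4994 piece S. -/

namespace Cfsg.Agent.Lib.S4994

universe u

variable {G : Type u} [Group G]

theorem group_lemma_sections [Finite G] (hsolv : Group.IsSolvable G) (p : ℕ) [Fact p.Prime]
    {ι : Type} [Fintype ι] (L M : ι → Subgroup G) [∀ i, (L i).Normal] [∀ i, (M i).Normal]
    (hLM : ∀ i, L i < M i)
    (hchief : ∀ i, ∀ K : Subgroup G, K.Normal → L i ≤ K → K ≤ M i → K = L i ∨ K = M i)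
    (hab : ∀ i, ∀ x ∈ M i, ∀ y ∈ M i, x * y * x⁻¹ * y⁻¹ ∈ L i)
    (hexp : ∀ i, ∀ x ∈ M i, x ^ p ∈ L i)
    (hnc : ∀ i, ∃ g : G, ∃ x ∈ M i, g * x * g⁻¹ * x⁻¹ ∉ L i) :
    ∃ g : G, (∏ i, (L i).relIndex (relCent (L i) (M i) g)) ^ 2 ≤ ∏ i, (L i).relIndex (M i) :=
  group_lemma_sections_of p (fun A _ _ _ hp hirr hnt => group_lemma_modules hsolv p A hp hirr hnt)
    L M hLM hchief hab hexp hnc

end Cfsg.Agent.Lib.S4994
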